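import Groth.Agent.H82.Weyl.CommFormula

/-!
# Where the commutator of two root elements lives
-/

set_option autoImplicit false
set_option linter.style.haveILetI false
set_option linter.unusedSectionVars false
universe u

open CategoryTheory MonoidalCategory CartesianMonoidalCategory MonObj GrpObj AlgebraicGeometry
open Groth.Agent.Lib.RedPts Groth.Agent.H82.BigCell Groth.Agent.H82.Contract Groth.Agent.H82.Weyl
open Groth.Agent.H82.RankOne (P P_eq P_zero P_comp P_add P_neg)
open scoped commutatorElement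

namespace Groth.Agent.H82.Order

variable {S : Scheme.{u}} {G : Over S} [GrpObj G] {D : Red.SplitRed G}

theorem prodPts_mem {X : Over S} {N : Subgroup (X ⟶ G)} : ∀ {k : ℕ} (g : Fin k → (X ⟶ G)),
    (∀ i, g i ∈ N) → prodPts k g ∈ N
  | 0, _, _ => one_mem _
  | k + 1, g, hg => by
    rw [prodPts_succ]
    exact mul_mem (hg 0) (prodPts_mem _ fun i => hg i.succ)

theorem fn_ext_piece {X : Over S} {a b : Γ(X.left, ⊤)}
    (h : ∀ q, (pieceHom X q).left.appTop a = (pieceHom X q).left.appTop b) : a = b := by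
  have h1 : Ga.gaPt a = Ga.gaPt b := pt_ext_affine fun q => Ga.gaFn_injective (by
    rw [Ga.gaFn_comp, Ga.gaFn_comp, Ga.gaFn_gaPt, Ga.gaFn_gaPt, h q])
  simpa [Ga.gaFn_gaPt] using congrArg Red.gaFn h1

/-- The commutator of two root elements lies in a subgroup containing the root groups of the
positive combinations. -/
theorem commutator_mem {l : D.M →+ ℤ} (hl : ∀ c, l (D.P.root c) ≠ 0) {a b : D.idx}
    (hla : 0 < l (D.P.root a)) (hlb : 0 < l (D.P.root b)) {X : Over S} (N : Subgroup (X ⟶ G))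
    (hN : ∀ (c : D.idx) (p q : ℕ), 1 ≤ p → 1 ≤ q → D.P.root c = p • D.P.root a + q • D.P.root b →
      ∀ r : Γ(X.left, ⊤), P (D.u c) r ∈ N)
    (x y : Γ(X.left, ⊤)) : ⁅P (D.u b) y, P (D.u a) x⁆ ∈ N := by
  classical
  haveI := isAffineHom D
  obtain ⟨n, m, e, e', he, he', -, hinj, ho⟩ := exists_cell hl
  haveI := ho
  haveI := mono_of_isClosedImmersion _ (mono_prodMap_pos hinj he')
  have e0 : ⁅P (D.u b) y, P (D.u a) x⁆ = cm a b x (-y) := by
    rw [cm, P_neg, _root_.inv_inv, commutatorElement_def]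
  have hlim : IsLimPt (gcochar D l) (cm a b x (-y)) 1 := by
    have hroot : ∀ (c : D.idx), 0 < l (D.P.root c) → ∀ (x : Γ(X.left, ⊤)),
        IsLimPt (gcochar D l) (P (D.u c) x) 1 := fun c hc x => by
      refine isLimPt_root (d := (l (D.P.root c)).toNat) (isRootPts D c) (by omega) ?_ x
      rw [Int.toNat_of_nonneg hc.le]
      exact hasDeg D l _
    have := (((hroot b hlb (-y)).inv.mul (hroot a hla x)).mul (hroot b hlb (-y))).mul (hroot a hla x).inv
    rwa [inv_one, _root_.one_mul, _root_.one_mul, _root_.one_mul] at this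
  obtain ⟨z, hz⟩ := exists_prod_of_isLimPt he he' hlim
  rw [comp_prodMap] at hz
  rw [e0, ← hz]
  refine prodPts_mem _ fun k => ?_
  rw [← Category.assoc, P_eq]
  by_cases hk : ∃ p q : ℕ, 1 ≤ p ∧ 1 ≤ q ∧ D.P.root (e' k) = p • D.P.root a + q • D.P.root b
  · obtain ⟨p, q, hp, hq, h⟩ := hk
    exact hN _ p q hp hq h _
  · suffices Red.gaFn (z ≫ proj m k) = 0 by rw [this, P_zero]; exact one_mem _
    refine fn_ext_piece fun q => ?_
    let Y := piece X q
    let π : Y ⟶ X := pieceHom X q
    haveI : IsAffine Y.left := inferInstanceAs (IsAffine (X.left.affineCover.X q))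
    obtain ⟨f, hf, hsupp⟩ := exists_support_univ hla hlb he he' hinj Y
    obtain ⟨d, -, hd⟩ := exists_toExt (MvPolynomial.C : Γ(Y.left, ⊤) →+* MvPolynomial (Fin 2) Γ(Y.left, ⊤)) (𝟙 Y)
      (MvPolynomial.eval₂Hom (RingHom.id _) ![π.left.appTop x, π.left.appTop (-y)]) (by
        refine RingHom.ext fun r => ?_
        rw [RingHom.comp_apply, MvPolynomial.eval₂Hom_C]
        simp)
    have h := congrArg (d ≫ ·) hf
    simp only [cm_comp, comp_prodPts, P_comp] at h
    rw [hd, hd, MvPolynomial.eval₂Hom_X', MvPolynomial.eval₂Hom_X'] at h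
    have h1 := congrArg (π ≫ ·) hz
    simp only [cm_comp, comp_prodPts] at h1
    have h2 := congrFun (uniq_coords (d := e') (fun j => π.left.appTop (Red.gaFn (z ≫ proj m j)))
      (fun j => d.left.appTop (fn Y MvPolynomial.C (f j))) (by
        refine Eq.trans (congrArg _ (funext fun j => ?_)) (h1.trans h)
        rw [← Category.assoc _ (proj m j), P_eq, P_comp])) k
    refine h2.trans ?_
    have h0 : f k = 0 := MvPolynomial.ext _ _ fun dd => by
      rw [MvPolynomial.coeff_zero]
      by_contra hne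
      obtain ⟨h0, h1, hw⟩ := hsupp k dd hne
      rw [weight_two, natCast_zsmul, natCast_zsmul] at hw
      exact hk ⟨_, _, Nat.one_le_iff_ne_zero.2 h0, Nat.one_le_iff_ne_zero.2 h1, hw.symm⟩
    rw [h0, map_zero, map_zero, map_zero]

end Groth.Agent.H82.Order
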