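import Groth.Agent.H82.Order.Filtration

/-!
# Coordinates on the positive root groups of an ordering
-/

set_option autoImplicit false
set_option linter.style.haveILetI false
set_option linter.unusedSectionVars false
universe u

open CategoryTheory MonoidalCategory CartesianMonoidalCategory MonObj GrpObj AlgebraicGeometry
open Groth.Agent.Lib.RedPts Groth.Agent.H82.BigCell Groth.Agent.H82.Contract
open Groth.Agent.H82.RankOne (P P_eq P_zero P_comp P_add P_neg)

namespace Groth.Agent.H82.Order

variable {S : Scheme.{u}} {G : Over S} [GrpObj G] {D : Red.SplitRed G}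
variable [LinearOrder D.M] [IsOrderedAddMonoid D.M] {N : ℕ} (e : Fin N → D.idx)

/-- The big cell belonging to the ordering. -/
theorem exists_cell_order (he : Function.Injective e)
    (hrange : ∀ a : D.idx, a ∈ Set.range e ↔ 0 < D.P.root a) :
    ∃ (l : D.M →+ ℤ) (p : ℕ) (eneg : Fin p → D.idx), (∀ k, l (D.P.root (eneg k)) < 0) ∧
      (∀ k, 0 < l (D.P.root (e k))) ∧ (∀ a, l (D.P.root a) ≠ 0) ∧ (∀ a, 0 < l (D.P.root a) ↔ 0 < D.P.root a) ∧
      IsOpenImmersion (RedSub.cellMap D eneg e).left := by
  classical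
  obtain ⟨l, hl⟩ := exists_regular_order D
  let A := {a : D.idx // l (D.P.root a) < 0}
  have hpos : ∀ k, 0 < l (D.P.root (e k)) := fun k => (hl _).1.2 ((hrange _).1 (Set.mem_range_self k))
  have hneg : ∀ k, l (D.P.root ((Fintype.equivFin A).symm k).1) < 0 := fun k => ((Fintype.equivFin A).symm k).2
  refine ⟨l, _, fun k => ((Fintype.equivFin A).symm k).1, hneg, hpos,
    fun a => (hl a).2, fun a => (hl a).1, isOpenImmersion_cellMap (l := l)
      (Subtype.val_injective.comp (Equiv.injective _)) he hneg hpos ?_⟩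
  rw [show Fintype.card A + N = Fintype.card (A ⊕ Fin N) by simp]
  refine Fintype.card_of_bijective (f := Sum.elim Subtype.val e)
    ⟨Subtype.val_injective.sumElim he fun a k h => ?_, fun a => ?_⟩
  · have h1 := a.2
    rw [h] at h1
    exact absurd (hpos k) (not_lt.2 h1.le)
  · rcases lt_or_gt_of_ne (hl a).2 with h | h
    · exact ⟨Sum.inl ⟨a, h⟩, rfl⟩
    · obtain ⟨k, hk⟩ := (hrange a).2 ((hl a).1.1 h)
      exact ⟨Sum.inr k, hk⟩

/-- Uniqueness of the coordinates. -/
theorem coords_inj (he : Function.Injective e) (hrange : ∀ a : D.idx, a ∈ Set.range e ↔ 0 < D.P.root a)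
    {X : Over S} (p q : Fin N → Γ(X.left, ⊤))
    (h : prodPts N (fun k => P (D.u (e k)) (p k)) = prodPts N (fun k => P (D.u (e k)) (q k))) : p = q := by
  obtain ⟨l, n, eneg, -, hpos, -, -, ho⟩ := exists_cell_order e he hrange
  haveI := mono_of_isClosedImmersion _ (mono_prodMap_pos (l := l) he hpos)
  exact Weyl.uniq_coords p q h

end Groth.Agent.H82.Order
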