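import Groth.Agent.H82.Order.Regular
import Groth.Agent.H82.Order.CommMem
import Groth.Agent.H82.Borel.Solvable

/-!
# The filtration of the positive root groups for an ordering of the lattice
-/

set_option autoImplicit false
set_option linter.style.haveILetI false
set_option linter.unusedSectionVars false
universe u

open CategoryTheory MonoidalCategory CartesianMonoidalCategory MonObj GrpObj AlgebraicGeometry
open Groth.Agent.Lib.RedPts Groth.Agent.H82.BigCell Groth.Agent.H82.Contract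
open Groth.Agent.H82.RankOne (P P_eq P_zero P_comp P_add P_neg)
open scoped commutatorElement

namespace Groth.Agent.H82.Order

variable {S : Scheme.{u}} {G : Over S} [GrpObj G] {D : Red.SplitRed G}

theorem ofFn_prod {X : Over S} : ∀ {m : ℕ} (f : Fin m → (X ⟶ G)), (List.ofFn f).prod = prodPts m f
  | 0, f => by simp
  | m + 1, f => by rw [List.ofFn_succ, List.prod_cons, prodPts_succ, ofFn_prod]

variable {N : ℕ} (e : Fin N → D.idx)

/-- The group generated by the root elements of index at least `i`. -/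
noncomputable def upper (X : Over S) (i : ℕ) : Subgroup (X ⟶ G) :=
  Subgroup.closure {g | ∃ (k : Fin N) (r : Γ(X.left, ⊤)), i ≤ (k : ℕ) ∧ g = P (D.u (e k)) r}

theorem root_mem_upper {X : Over S} {i : ℕ} (k : Fin N) (h : i ≤ (k : ℕ)) (r : Γ(X.left, ⊤)) :
    P (D.u (e k)) r ∈ upper e X i := Subgroup.subset_closure ⟨k, r, h, rfl⟩

theorem upper_anti (X : Over S) {i j : ℕ} (h : i ≤ j) : upper e X j ≤ upper e X i :=
  Subgroup.closure_mono fun _ ⟨k, r, hk, hg⟩ => ⟨k, r, h.trans hk, hg⟩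

theorem upper_eq_bot (X : Over S) {i : ℕ} (h : N ≤ i) : upper e X i = ⊥ := by
  refine le_bot_iff.1 ((Subgroup.closure_le _).2 ?_)
  rintro g ⟨k, r, hk, -⟩
  exact absurd k.2 (not_lt.2 (h.trans hk))

theorem prodPts_mem_upper {X : Over S} {i m : ℕ} (h : i + m = N) (z : Fin m → Γ(X.left, ⊤)) :
    prodPts m (fun k => P (D.u (e (Fin.cast h (Fin.natAdd i k)))) (z k)) ∈ upper e X i :=
  prodPts_mem _ fun k => root_mem_upper e _ (by simp) _

variable [LinearOrder D.M] [IsOrderedAddMonoid D.M]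
variable (hrange : ∀ a : D.idx, a ∈ Set.range e ↔ 0 < D.P.root a)
  (hmono : StrictMono fun k => D.P.root (e k))

include hrange hmono

theorem commutator_root {X : Over S} (j k : Fin N) (r s : Γ(X.left, ⊤)) :
    ⁅P (D.u (e j)) r, P (D.u (e k)) s⁆ ∈ upper e X (max (j : ℕ) k + 1) := by
  obtain ⟨l, hl⟩ := exists_regular_order D
  have hp : ∀ k, 0 < D.P.root (e k) := fun k => (hrange _).1 (Set.mem_range_self k)
  refine commutator_mem (fun c => (hl c).2) ((hl _).1.2 (hp k)) ((hl _).1.2 (hp j)) _ (fun c p q hp1 hq1 hc t => ?_) s r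
  have h1 : D.P.root (e k) ≤ p • D.P.root (e k) := le_self_nsmul (hp k).le (by omega)
  have h2 : D.P.root (e j) ≤ q • D.P.root (e j) := le_self_nsmul (hp j).le (by omega)
  have h3 : 0 < p • D.P.root (e k) := lt_of_lt_of_le (hp k) h1
  have h4 : 0 < q • D.P.root (e j) := lt_of_lt_of_le (hp j) h2
  obtain ⟨t', rfl⟩ := (hrange c).2 (hc ▸ add_pos h3 h4)
  refine root_mem_upper e t' ?_ t
  have h5 : k < t' := hmono.lt_iff_lt.1 (show D.P.root (e k) < D.P.root (e t') by
    rw [hc]; exact lt_of_le_of_lt h1 (lt_add_of_pos_right _ h4))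
  have h6 : j < t' := hmono.lt_iff_lt.1 (show D.P.root (e j) < D.P.root (e t') by
    rw [hc]; exact lt_of_le_of_lt h2 (lt_add_of_pos_left _ h3))
  rw [Fin.lt_def] at h5 h6
  omega

theorem conj_upper {X : Over S} {i : ℕ} :
    ∀ y ∈ upper e X 0, ∀ g ∈ upper e X i, y * g * y⁻¹ ∈ upper e X i := by
  have h : ∀ (j : Fin N) (r : Γ(X.left, ⊤)), ∀ g ∈ upper e X i,
      P (D.u (e j)) r * g * (P (D.u (e j)) r)⁻¹ ∈ upper e X i := by
    intro j r g hg
    induction hg using Subgroup.closure_induction with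
    | mem g hg =>
      obtain ⟨k, s, hk, rfl⟩ := hg
      rw [show P (D.u (e j)) r * P (D.u (e k)) s * (P (D.u (e j)) r)⁻¹ =
        ⁅P (D.u (e j)) r, P (D.u (e k)) s⁆ * P (D.u (e k)) s by rw [commutatorElement_def]; group]
      exact mul_mem (upper_anti e X (by omega) (commutator_root e hrange hmono j k r s)) (root_mem_upper e k hk s)
    | one => simp
    | mul g g' _ _ ihg ihg' =>
      rw [show P (D.u (e j)) r * (g * g') * (P (D.u (e j)) r)⁻¹ =
        (P (D.u (e j)) r * g * (P (D.u (e j)) r)⁻¹) * (P (D.u (e j)) r * g' * (P (D.u (e j)) r)⁻¹) by group]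
      exact mul_mem ihg ihg'
    | inv g _ ihg =>
      rw [show P (D.u (e j)) r * g⁻¹ * (P (D.u (e j)) r)⁻¹ = (P (D.u (e j)) r * g * (P (D.u (e j)) r)⁻¹)⁻¹ by group]
      exact inv_mem ihg
  refine Borel.conj_closure_mem ?_ ?_
  · rintro x ⟨j, r, -, rfl⟩
    exact h j r
  · rintro x ⟨j, r, -, rfl⟩ g hg
    have := h j (-r) g hg
    rwa [P_neg, _root_.inv_inv] at this

/-- Conjugation by the whole group is trivial modulo the next step. -/
theorem commutator_upper {X : Over S} (j : Fin N) (r : Γ(X.left, ⊤)) {y : X ⟶ G} (hy : y ∈ upper e X 0) :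
    ⁅y, P (D.u (e j)) r⁆ ∈ upper e X ((j : ℕ) + 1) := by
  rw [← commutatorElement_inv]
  refine inv_mem (Borel.commutator_closure_mem (conj_upper e hrange hmono) ?_ hy)
  rintro g ⟨k, s, -, rfl⟩
  exact upper_anti e X (by omega) (commutator_root e hrange hmono j k r s)

theorem exists_head {X : Over S} {i : Fin N} {g : X ⟶ G} (hg : g ∈ upper e X i) :
    ∃ (r : Γ(X.left, ⊤)) (h : X ⟶ G), h ∈ upper e X ((i : ℕ) + 1) ∧ g = P (D.u (e i)) r * h := by
  induction hg using Subgroup.closure_induction with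
  | mem g hg =>
    obtain ⟨k, s, hk, rfl⟩ := hg
    rcases hk.eq_or_lt with h | h
    · rw [← Fin.ext h]
      exact ⟨s, 1, one_mem _, (_root_.mul_one _).symm⟩
    · exact ⟨0, _, root_mem_upper e k h s, by rw [P_zero, _root_.one_mul]⟩
  | one => exact ⟨0, 1, one_mem _, by rw [P_zero, _root_.one_mul]⟩
  | mul a b _ _ iha ihb =>
    obtain ⟨r, h, hh, rfl⟩ := iha
    obtain ⟨r', h', hh', rfl⟩ := ihb
    refine ⟨r + r', ((P (D.u (e i)) r')⁻¹ * h * P (D.u (e i)) r') * h', mul_mem ?_ hh', ?_⟩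
    · have := conj_upper e hrange hmono _ (inv_mem (root_mem_upper e i (Nat.zero_le _) r')) h hh
      rwa [_root_.inv_inv] at this
    · rw [P_add]; group
  | inv a _ iha =>
    obtain ⟨r, h, hh, rfl⟩ := iha
    refine ⟨-r, P (D.u (e i)) r * h⁻¹ * (P (D.u (e i)) r)⁻¹,
      conj_upper e hrange hmono _ (root_mem_upper e i (Nat.zero_le _) r) _ (inv_mem hh), ?_⟩
    rw [P_neg]; group

/-- The upper group is the set of ordered products. -/
theorem exists_coords {X : Over S} : ∀ {m i : ℕ} (h : i + m = N) {g : X ⟶ G}, g ∈ upper e X i →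
    ∃ z : Fin m → Γ(X.left, ⊤), g = prodPts m (fun k => P (D.u (e (Fin.cast h (Fin.natAdd i k)))) (z k))
  | 0, i, h, g, hg => by
    rw [upper_eq_bot e X (by omega), Subgroup.mem_bot] at hg
    exact ⟨Fin.elim0, hg.trans (prodPts_zero _).symm⟩
  | m + 1, i, h, g, hg => by
    obtain ⟨r, g', hg', rfl⟩ := exists_head e hrange hmono (i := ⟨i, by omega⟩) hg
    obtain ⟨z, rfl⟩ := exists_coords (m := m) (i := i + 1) (by omega) hg'
    refine ⟨Fin.cons r z, ?_⟩
    rw [prodPts_succ]
    refine congrArg₂ (· * ·) ?_ (congrArg _ (funext fun k => ?_))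
    · rw [Fin.cons_zero]
      exact congrArg (fun t => P (D.u (e t)) r) (Fin.ext (by simp))
    · rw [Fin.cons_succ]
      exact congrArg (fun t => P (D.u (e t)) (z k)) (Fin.ext (by simp; omega))

theorem conj_first {X : Over S} {m i : ℕ} (h : i + (m + 1) = N) {x : X ⟶ G} (hx : x ∈ upper e X 0)
    (y : Fin (m + 1) → Γ(X.left, ⊤)) :
    ∃ z : Fin m → Γ(X.left, ⊤),
      x * prodPts (m + 1) (fun k => P (D.u (e (Fin.cast h (Fin.natAdd i k)))) (y k)) * x⁻¹ =
        prodPts (m + 1) (fun k => P (D.u (e (Fin.cast h (Fin.natAdd i k)))) ((Fin.cons (y 0) z : Fin (m + 1) → Γ(X.left, ⊤)) k)) := by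
  set a : Fin N := Fin.cast h (Fin.natAdd i 0) with ha
  rw [prodPts_succ]
  set t := prodPts m (fun k => P (D.u (e (Fin.cast h (Fin.natAdd i k.succ)))) (y k.succ)) with ht
  set w := P (D.u (e a)) (y 0) with hw
  have hav : (a : ℕ) = i := by simp [ha]
  have htm : t ∈ upper e X (i + 1) := prodPts_mem _ fun k => root_mem_upper e _ (by simp) _
  have h1 : ⁅x, w⁆ ∈ upper e X (i + 1) := hav ▸ commutator_upper e hrange hmono a (y 0) hx
  have h2 : w⁻¹ * ⁅x, w⁆ * w * (x * t * x⁻¹) ∈ upper e X (i + 1) := by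
    refine mul_mem ?_ (conj_upper e hrange hmono x hx t htm)
    have := conj_upper e hrange hmono _ (inv_mem (root_mem_upper e a (Nat.zero_le _) (y 0))) _ h1
    rwa [_root_.inv_inv] at this
  obtain ⟨z, hz⟩ := exists_coords e hrange hmono (m := m) (i := i + 1) (by omega) h2
  refine ⟨z, ?_⟩
  have e1 : x * (w * t) * x⁻¹ = w * (w⁻¹ * ⁅x, w⁆ * w * (x * t * x⁻¹)) := by
    rw [commutatorElement_def]; group
  rw [e1, hz, prodPts_succ, Fin.cons_zero]
  refine congrArg (w * ·) (congrArg _ (funext fun k => ?_))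
  rw [Fin.cons_succ]
  exact congrArg (fun t => P (D.u (e t)) (z k)) (Fin.ext (by simp; omega))

end Groth.Agent.H82.Order
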