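import Groth.Agent.H82.BigCell.Tools

/-!
# Global functions from natural families on affine objects
-/

set_option autoImplicit false
set_option linter.style.haveILetI false
universe u

open CategoryTheory MonoidalCategory CartesianMonoidalCategory MonObj GrpObj AlgebraicGeometry Limits
open Groth.Agent.Lib.RedPts Groth.Agent.H82.BigCell

namespace Groth.Agent.H82.Order

variable {S : Scheme.{u}}

/-- A natural family of functions on the affine objects over `S` comes from a function on `S`. -/
theorem exists_fn_of_natural (a : ∀ (Y : Over S), IsAffine Y.left → Γ(Y.left, ⊤))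
    (ha : ∀ (Y Y' : Over S) (hY : IsAffine Y.left) (hY' : IsAffine Y'.left) (c : Y' ⟶ Y),
      c.left.appTop (a Y hY) = a Y' hY') :
    ∃ r : Γ(S, ⊤), ∀ (Y : Over S) (hY : IsAffine Y.left), Y.hom.appTop r = a Y hY := by
  let Yq : S.affineCover.I₀ → Over S := fun q => Over.mk (S.affineCover.f q)
  have hq : ∀ q, IsAffine (Yq q).left := fun q => inferInstanceAs (IsAffine (S.affineCover.X q))
  have compat : ∀ {W : Over S} (i j : S.affineCover.I₀) (p : W ⟶ Yq i) (q : W ⟶ Yq j),
      p ≫ Ga.gaPt (a (Yq i) (hq i)) = q ≫ Ga.gaPt (a (Yq j) (hq j)) := fun {W} i j p q => by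
    refine pt_ext_affine fun k => Ga.gaFn_injective ?_
    have hk : IsAffine (piece W k).left := inferInstanceAs (IsAffine (W.left.affineCover.X k))
    rw [← Category.assoc, ← Category.assoc, Ga.gaFn_comp, Ga.gaFn_comp, Ga.gaFn_gaPt, Ga.gaFn_gaPt,
      ha _ _ (hq i) hk, ha _ _ (hq j) hk]
  let C : S ⟶ (Red.Ga S).left := S.affineCover.glueMorphisms (fun q => (Ga.gaPt (a (Yq q) (hq q))).left)
    fun i j => by
      let W : Over S := Over.mk (pullback.fst (S.affineCover.f i) (S.affineCover.f j) ≫ S.affineCover.f i)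
      exact congrArg Over.Hom.left (compat (W := W) i j (Over.homMk (pullback.fst _ _) rfl)
        (Over.homMk (pullback.snd _ _) pullback.condition.symm))
  have hC : ∀ q, S.affineCover.f q ≫ C = (Ga.gaPt (a (Yq q) (hq q))).left := fun q =>
    S.affineCover.ι_glueMorphisms _ _ q
  let C' : Over.mk (𝟙 S) ⟶ Red.Ga S := Over.homMk C (S.affineCover.hom_ext _ _ fun q => by
    rw [← Category.assoc, hC, Over.w (Ga.gaPt (a (Yq q) (hq q)))]
    exact (Category.comp_id _).symm)
  refine ⟨Red.gaFn C', fun Y hY => ?_⟩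
  let π : Y ⟶ Over.mk (𝟙 S) := Over.homMk Y.hom (Category.comp_id _)
  have hπ : π ≫ C' = Ga.gaPt (a Y hY) := Over.OverMorphism.ext
    (Scheme.Cover.hom_ext (S.affineCover.pullback₁ Y.hom) _ _ fun q => by
      let W : Over S := Over.mk (pullback.fst Y.hom (S.affineCover.f q) ≫ Y.hom)
      let p : W ⟶ Y := Over.homMk (pullback.fst _ _) rfl
      let p' : W ⟶ Yq q := Over.homMk (pullback.snd _ _) pullback.condition.symm
      have h1 : p' ≫ Ga.gaPt (a (Yq q) (hq q)) = p ≫ Ga.gaPt (a Y hY) := by
        refine pt_ext_affine fun k => Ga.gaFn_injective ?_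
        have hk : IsAffine (piece W k).left := inferInstanceAs (IsAffine (W.left.affineCover.X k))
        rw [← Category.assoc, ← Category.assoc, Ga.gaFn_comp, Ga.gaFn_comp, Ga.gaFn_gaPt, Ga.gaFn_gaPt,
          ha _ _ (hq q) hk, ha _ _ hY hk]
      have h2 := congrArg Over.Hom.left h1
      change pullback.snd Y.hom (S.affineCover.f q) ≫ (Ga.gaPt (a (Yq q) (hq q))).left =
        pullback.fst Y.hom (S.affineCover.f q) ≫ (Ga.gaPt (a Y hY)).left at h2
      change pullback.fst Y.hom (S.affineCover.f q) ≫ Y.hom ≫ C = _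
      rw [pullback.condition_assoc, hC]
      exact h2)
  have h3 := congrArg Red.gaFn hπ
  rw [Ga.gaFn_comp, Ga.gaFn_gaPt] at h3
  exact h3

end Groth.Agent.H82.Order
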