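import Groth.Agent.H82.Order.GlueFn
import Groth.Agent.H82.Weyl.CommFormula

/-!
# Torus-equivariant families of unipotent points are given by weighted polynomials
-/

set_option autoImplicit false
set_option linter.style.haveILetI false
set_option linter.unusedSectionVars false
universe u

open CategoryTheory MonoidalCategory CartesianMonoidalCategory MonObj GrpObj AlgebraicGeometry
open Groth.Agent.Lib.RedPts Groth.Agent.H82.BigCell Groth.Agent.H82.Contract Groth.Agent.H82.Weyl
open Groth.Agent.H82.RankOne (P P_eq P_zero P_comp)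

namespace Groth.Agent.H82.Order

variable {S : Scheme.{u}} {G : Over S} [GrpObj G] {D : Red.SplitRed G}

theorem fn_ext_over {a b : Γ(S, ⊤)}
    (h : ∀ (Y : Over S), IsAffine Y.left → Y.hom.appTop a = Y.hom.appTop b) : a = b :=
  fn_ext_affine (X := Over.mk (𝟙 S)) fun X' c hX' => by
    have e : c.left = X'.hom := (Category.comp_id _).symm.trans (Over.w c)
    rw [e]; exact h X' hX'

/-- A family of points of the positive unipotent part, natural and equivariant with given weights. -/
structure Fam (D : Red.SplitRed G) (l : D.M →+ ℤ) (n : ℕ) where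
  /-- the weights of the parameters -/
  wt : Fin n → D.M
  /-- the values -/
  val : ∀ {X : Over S}, (Fin n → Γ(X.left, ⊤)) → (X ⟶ G)
  comp : ∀ {X X' : Over S} (c : X' ⟶ X) (v : Fin n → Γ(X.left, ⊤)),
    c ≫ val v = val fun j => c.left.appTop (v j)
  lim : ∀ {X : Over S} (v : Fin n → Γ(X.left, ⊤)), IsLimPt (gcochar D l) (val v) 1
  conj : ∀ {X : Over S} (t : X ⟶ D.T) (v : Fin n → Γ(X.left, ⊤)),
    (t ≫ D.i) * val v = val (fun j => Red.gmFn (t ≫ chr D (wt j)) * v j) * (t ≫ D.i)

variable {l : D.M →+ ℤ} {n m p : ℕ} {e : Fin p → D.idx} {e' : Fin m → D.idx}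
  [IsOpenImmersion (RedSub.cellMap D e e').left]

set_option maxHeartbeats 2000000 in
include e in
theorem exists_support (F : Fam D l n) (he : ∀ k, l (D.P.root (e k)) < 0)
    (he' : ∀ k, 0 < l (D.P.root (e' k))) (hinj : Function.Injective e') (X : Over S) [IsAffine X.left] :
    ∃ f : Fin m → MvPolynomial (Fin n) Γ(X.left, ⊤),
      F.val (fun j => affX X (n := n) j) = prodPts m (fun k => P (D.u (e' k)) (fn X MvPolynomial.C (f k))) ∧
      ∀ k d, (f k).coeff d ≠ 0 → Finsupp.weight F.wt d = D.P.root (e' k) := by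
  classical
  haveI := isAffineHom D
  obtain ⟨z, hz⟩ := exists_prod_of_isLimPt he he' (F.lim fun j => affX X (n := n) j)
  rw [comp_prodMap] at hz
  let φA : Γ(X.left, ⊤) →+* MvPolynomial (Fin n) Γ(X.left, ⊤) := MvPolynomial.C
  let E := fn X φA
  let f : Fin m → MvPolynomial (Fin n) Γ(X.left, ⊤) := fun k => E.symm (Red.gaFn (z ≫ proj m k))
  have hw : F.val (fun j => affX X (n := n) j) = prodPts m fun k => P (D.u (e' k)) (E (f k)) := by
    rw [← hz]
    refine congrArg _ (funext fun k => ?_)
    rw [← Category.assoc, P_eq, E.apply_symm_apply]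
  haveI := mono_of_isClosedImmersion _ (mono_prodMap_pos hinj he')
  let φ' : Γ((aff X n).left, ⊤) →+* AddMonoidAlgebra Γ((aff X n).left, ⊤) D.M :=
    AddMonoidAlgebra.singleZeroRingHom
  let Y' := BigCell.ext (aff X n) φ'
  let Q := fn (aff X n) φ'
  let χ : Multiplicative D.M →* Γ(Y'.left, ⊤) :=
    Q.toRingHom.toMonoidHom.comp (AddMonoidAlgebra.of Γ((aff X n).left, ⊤) D.M)
  let t : Y' ⟶ D.T := Gm.dsPt χ ≫ D.split.inv.hom.hom
  have ht : ∀ c, Red.gmFn (t ≫ chr D c) = Q (AddMonoidAlgebra.single c 1) := fun c => by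
    simp only [t, chr, Category.assoc]
    rw [← Category.assoc D.split.inv.hom.hom, split_inv_hom, Category.id_comp, Gm.gmFn_chi, Gm.dsFn_dsPt]
    rfl
  obtain ⟨ρ, -, hρ⟩ := exists_toExt φA (extHom (aff X n) φ' ≫ extHom X φA)
    (Q.toRingHom.comp (grade E.toRingHom F.wt)) (by
      refine RingHom.ext fun r => ?_
      rw [Over.comp_left, Scheme.Hom.comp_appTop, CommRingCat.comp_apply, extHom_fn, extHom_fn,
        RingHom.comp_apply, RingHom.comp_apply, grade, MvPolynomial.eval₂Hom_C]
      rfl)
  have hvar : ∀ j : Fin n, ρ.left.appTop (E (MvPolynomial.X j)) =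
      Q (AddMonoidAlgebra.single (F.wt j) 1) * (extHom (aff X n) φ').left.appTop (E (MvPolynomial.X j)) := fun j => by
    rw [hρ, extHom_fn, ← map_mul]
    refine congrArg Q ((MvPolynomial.eval₂Hom_X' _ _ _).trans ?_)
    simp [φ', AddMonoidAlgebra.singleZeroRingHom, AddMonoidAlgebra.single_mul_single]
  have hf : ∀ k, Q (AddMonoidAlgebra.single (D.P.root (e' k)) 1) * (extHom (aff X n) φ').left.appTop (E (f k)) =
      ρ.left.appTop (E (f k)) := by
    have h1 := F.conj t (fun j => (extHom (aff X n) φ').left.appTop (affX X (n := n) j))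
    have h2 := congrArg (extHom (aff X n) φ' ≫ ·) hw
    have h3 := congrArg (ρ ≫ ·) hw
    simp only [F.comp, comp_prodPts, P_comp] at h2 h3
    have e1 : (fun j => Red.gmFn (t ≫ chr D (F.wt j)) * (extHom (aff X n) φ').left.appTop (affX X (n := n) j)) =
        fun j => ρ.left.appTop (affX X (n := n) j) := funext fun j => by rw [ht]; exact (hvar j).symm
    rw [e1, h2, h3] at h1
    rw [mul_prodPts (t ≫ D.i) (b := fun k => P (D.u (e' k))
      (Red.gmFn (t ≫ chr D (D.P.root (e' k))) * (extHom (aff X n) φ').left.appTop (E (f k))))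
      (fun k => isRootPts D (e' k) t _)] at h1
    intro k
    have h4 := congrFun (uniq_coords _ _ (mul_right_cancel h1)) k
    rwa [ht] at h4
  refine ⟨f, hw, fun k d hd => ?_⟩
  by_contra hne
  have h1 := hf k
  rw [hρ, extHom_fn, ← map_mul] at h1
  have h2 := Q.injective h1
  rw [show φ' (E (f k)) = AddMonoidAlgebra.single 0 (E (f k)) from rfl, AddMonoidAlgebra.single_mul_single,
    add_zero, _root_.one_mul] at h2
  have h3 := congrArg (fun q => q.coeff (Finsupp.weight F.wt d)) h2
  simp only [AddMonoidAlgebra.coeff_single, coeff_grade, Finsupp.single_apply, if_neg (Ne.symm hne)] at h3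
  have h4 := congrArg (MvPolynomial.coeff d) (E.injective (h3.symm.trans (map_zero E).symm))
  rw [MvPolynomial.coeff_weightedHomogeneousComponent, if_pos rfl, MvPolynomial.coeff_zero] at h4
  exact hd h4

include e in
/-- The coordinates of a family are given by weighted polynomials over the base. -/
theorem exists_weighted (F : Fam D l n) (he : ∀ k, l (D.P.root (e k)) < 0)
    (he' : ∀ k, 0 < l (D.P.root (e' k))) (hinj : Function.Injective e') (hwt : ∀ j, 0 < l (F.wt j)) :
    ∃ Q : Fin m → MvPolynomial (Fin n) Γ(S, ⊤),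
      (∀ k d, (Q k).coeff d ≠ 0 → Finsupp.weight F.wt d = D.P.root (e' k)) ∧
      ∀ (X : Over S) (v : Fin n → Γ(X.left, ⊤)),
        F.val v = prodPts m fun k => P (D.u (e' k)) ((Q k).eval₂ X.hom.appTop.hom v) := by
  classical
  haveI := isAffineHom D
  haveI := mono_of_isClosedImmersion _ (mono_prodMap_pos hinj he')
  choose f hf hsupp using fun (Y : Over S) (hY : IsAffine Y.left) =>
    exists_support (e := e) F he he' hinj Y
  have hnat : ∀ (Y Y' : Over S) (hY : IsAffine Y.left) (hY' : IsAffine Y'.left) (c : Y' ⟶ Y) k,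
      f Y' hY' k = (f Y hY k).map c.left.appTop.hom := by
    intro Y Y' hY hY' c k
    obtain ⟨a, -, ha⟩ := exists_toExt (MvPolynomial.C : Γ(Y.left, ⊤) →+* MvPolynomial (Fin n) Γ(Y.left, ⊤))
      (extHom Y' (MvPolynomial.C : Γ(Y'.left, ⊤) →+* MvPolynomial (Fin n) Γ(Y'.left, ⊤)) ≫ c)
      ((fn Y' MvPolynomial.C).toRingHom.comp (MvPolynomial.map c.left.appTop.hom)) (by
        refine RingHom.ext fun r => ?_
        rw [Over.comp_left, Scheme.Hom.comp_appTop, RingHom.comp_apply, RingHom.comp_apply,
          MvPolynomial.map_C]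
        exact (extHom_fn Y' _ _).symm)
    have h1 := congrArg (a ≫ ·) (hf Y hY)
    simp only [F.comp, comp_prodPts, P_comp] at h1
    have e1 : (fun j => a.left.appTop (affX Y (n := n) j)) = fun j => affX Y' (n := n) j :=
      funext fun j => (ha _).trans (by rw [RingHom.comp_apply, MvPolynomial.map_X]; rfl)
    rw [e1] at h1
    have h2 := congrFun (uniq_coords _ _ ((hf Y' hY').symm.trans h1)) k
    rw [ha] at h2
    exact (fn Y' MvPolynomial.C).injective h2
  choose c hc using fun (k : Fin m) (d : Fin n →₀ ℕ) =>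
    exists_fn_of_natural (fun Y hY => (f Y hY k).coeff d) fun Y Y' hY hY' g => by
      rw [hnat Y Y' hY hY' g k, MvPolynomial.coeff_map]
  have hwd : ∀ (k : Fin m) (d : Fin n →₀ ℕ), Finsupp.weight F.wt d = D.P.root (e' k) →
      ∀ j, d j ≤ (l (D.P.root (e' k))).toNat := fun k d hd j => by
    have h1 : l (D.P.root (e' k)) = ∑ i, (d i : ℤ) * l (F.wt i) := by
      rw [← hd, Finsupp.weight_apply, Finsupp.sum_fintype _ _ (fun r => zero_smul ℕ (F.wt r)), map_sum]
      simp
    have h2 : (d j : ℤ) ≤ ∑ i, (d i : ℤ) * l (F.wt i) := by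
      refine le_trans ?_ (Finset.single_le_sum (f := fun i => (d i : ℤ) * l (F.wt i))
        (fun i _ => mul_nonneg (Int.natCast_nonneg _) (hwt i).le) (Finset.mem_univ j))
      exact le_mul_of_one_le_right (Int.natCast_nonneg _) (hwt j)
    omega
  let box : Fin m → Finset (Fin n →₀ ℕ) := fun k =>
    (Fintype.piFinset fun _ : Fin n => Finset.range ((l (D.P.root (e' k))).toNat + 1)).map
      Finsupp.equivFunOnFinite.symm.toEmbedding
  let Q : Fin m → MvPolynomial (Fin n) Γ(S, ⊤) := fun k =>
    ∑ d ∈ box k, MvPolynomial.monomial d (c k d)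
  have hQc : ∀ k d, (Q k).coeff d = if d ∈ box k then c k d else 0 := fun k d => by
    simp only [Q, MvPolynomial.coeff_sum, MvPolynomial.coeff_monomial, Finset.sum_ite_eq']
  have hmap : ∀ (Y : Over S) (hY : IsAffine Y.left) k, (Q k).map Y.hom.appTop.hom = f Y hY k := fun Y hY k => by
    refine MvPolynomial.ext _ _ fun d => ?_
    rw [MvPolynomial.coeff_map, hQc]
    split_ifs with h
    · exact hc k d Y hY
    · rw [map_zero]
      by_contra hne
      refine h (Finset.mem_map.2 ⟨fun j => d j, Fintype.mem_piFinset.2 fun j => ?_, Finsupp.ext fun j => rfl⟩)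
      rw [Finset.mem_range]
      have := hwd k d (hsupp Y hY k d (Ne.symm hne)) j
      omega
  refine ⟨Q, fun k d hd => ?_, fun X v => ?_⟩
  · by_contra hne
    refine hd (fn_ext_over fun Y hY => ?_)
    rw [map_zero, ← MvPolynomial.coeff_map, hmap Y hY]
    by_contra h
    exact hne (hsupp Y hY k d h)
  · refine pt_ext_affine fun q => ?_
    have hY : IsAffine (piece X q).left := inferInstanceAs (IsAffine (X.left.affineCover.X q))
    obtain ⟨d, -, hd⟩ := exists_toExt
      (MvPolynomial.C : Γ((piece X q).left, ⊤) →+* MvPolynomial (Fin n) Γ((piece X q).left, ⊤)) (𝟙 (piece X q))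
      (MvPolynomial.eval₂Hom (RingHom.id _) fun j => (pieceHom X q).left.appTop (v j)) (by
        refine RingHom.ext fun r => ?_
        rw [RingHom.comp_apply, MvPolynomial.eval₂Hom_C]
        simp)
    have h1 := congrArg (d ≫ ·) (hf (piece X q) hY)
    simp only [F.comp, comp_prodPts, P_comp] at h1
    rw [show (fun j => d.left.appTop (affX (piece X q) (n := n) j)) = fun j => (pieceHom X q).left.appTop (v j) from
      funext fun j => (hd _).trans (MvPolynomial.eval₂Hom_X' _ _ _)] at h1
    rw [F.comp, comp_prodPts, h1]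
    refine congrArg _ (funext fun k => ?_)
    rw [P_comp, hd, ← hmap (piece X q) hY k, MvPolynomial.coe_eval₂Hom, MvPolynomial.eval₂_map,
      RingHom.id_comp]
    refine congrArg (P _) (Eq.trans ?_ (MvPolynomial.eval₂_comp_left _ _ _ _).symm)
    rfl

end Groth.Agent.H82.Order
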