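import Groth.Agent.H82.Order.Coords
import Groth.Agent.H82.Order.Weighted
import Mathlib.Algebra.MvPolynomial.Variables
import Mathlib.Algebra.MvPolynomial.Rename

/-!
# The polynomial group law of the positive unipotent group
-/

set_option autoImplicit false
set_option linter.style.haveILetI false
set_option linter.unusedSectionVars false
universe u

open CategoryTheory MonoidalCategory CartesianMonoidalCategory MonObj GrpObj AlgebraicGeometry
open Groth.Agent.Lib.RedPts Groth.Agent.H82.BigCell Groth.Agent.H82.Contract Groth.Agent.H82.Weyl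
open Groth.Agent.H82.RankOne (P P_eq P_zero P_comp P_add P_neg)

namespace Groth.Agent.H82.Order

/-- The only weighted monomial containing a variable of at least the full weight is that variable. -/
theorem eq_single_of_weight {σ M : Type*} [Fintype σ] [AddCommGroup M] [LinearOrder M] [IsOrderedAddMonoid M]
    {w : σ → M} (hw : ∀ i, 0 < w i) {d : σ →₀ ℕ} {t : M} (hd : Finsupp.weight w d = t) {j : σ}
    (hj : d j ≠ 0) (hjt : t ≤ w j) : d = Finsupp.single j 1 ∧ w j = t := by
  classical
  have hle : Finsupp.single j 1 ≤ d := Finsupp.single_le_iff.2 (Nat.one_le_iff_ne_zero.2 hj)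
  obtain ⟨d', rfl⟩ : ∃ d', d = Finsupp.single j 1 + d' := ⟨d - Finsupp.single j 1, (add_tsub_cancel_of_le hle).symm⟩
  rw [map_add, Finsupp.weight_single, one_smul] at hd
  have h0 : Finsupp.weight w d' ≤ 0 := by
    have h1 : w j + Finsupp.weight w d' ≤ w j + 0 := by rw [hd, add_zero]; exact hjt
    exact le_of_add_le_add_left h1
  rw [Finsupp.weight_apply, Finsupp.sum_fintype _ _ (fun r => zero_smul ℕ (w r))] at h0
  have h2 : ∀ i ∈ Finset.univ, 0 ≤ d' i • w i := fun i _ => nsmul_nonneg (hw i).le _
  have h3 := (Finset.sum_eq_zero_iff_of_nonneg h2).1 (le_antisymm h0 (Finset.sum_nonneg h2))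
  have h4 : d' = 0 := Finsupp.ext fun i => by
    by_contra hne
    exact ((lt_of_lt_of_le (hw i) (le_self_nsmul (hw i).le hne)).ne') (h3 i (Finset.mem_univ i))
  subst h4
  rw [map_zero, add_zero] at hd
  exact ⟨add_zero _, hd⟩

variable {S : Scheme.{u}} {G : Over S} [GrpObj G] {D : Red.SplitRed G}
variable [LinearOrder D.M] [IsOrderedAddMonoid D.M] {N : ℕ} (e : Fin N → D.idx)

/-- The product of two ordered products, as a family. -/
noncomputable def mulFam (l : D.M →+ ℤ) (hl : ∀ k, 0 < l (D.P.root (e k))) : Fam D l (N + N) where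
  wt j := Sum.elim (fun k => D.P.root (e k)) (fun k => D.P.root (e k)) (finSumFinEquiv.symm j)
  val v := prodPts N (fun k => P (D.u (e k)) (v (finSumFinEquiv (Sum.inl k)))) *
    prodPts N (fun k => P (D.u (e k)) (v (finSumFinEquiv (Sum.inr k))))
  comp c v := by simp only [MonObj.comp_mul, comp_prodPts, P_comp]
  lim {X} v := by
    have h : ∀ w : Fin N → Γ(X.left, ⊤), IsLimPt (gcochar D l) (prodPts N fun k => P (D.u (e k)) (w k)) 1 := fun w =>
      isLimPt_prodPts fun k => isLimPt_root (d := (l (D.P.root (e k))).toNat) (isRootPts D (e k))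
        (by have := hl k; omega) (by rw [Int.toNat_of_nonneg (hl k).le]; exact hasDeg D l _) (w k)
    have := (h fun k => v (finSumFinEquiv (Sum.inl k))).mul (h fun k => v (finSumFinEquiv (Sum.inr k)))
    rwa [_root_.one_mul] at this
  conj {X} t v := by
    have h : ∀ w : Fin N → Γ(X.left, ⊤), (t ≫ D.i) * prodPts N (fun k => P (D.u (e k)) (w k)) =
        prodPts N (fun k => P (D.u (e k)) (Red.gmFn (t ≫ chr D (D.P.root (e k))) * w k)) * (t ≫ D.i) :=
      fun w => mul_prodPts (t ≫ D.i) fun k => isRootPts D (e k) t (w k)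
    rw [← _root_.mul_assoc, h, _root_.mul_assoc, h, ← _root_.mul_assoc]
    simp only [Equiv.symm_apply_apply, Sum.elim_inl, Sum.elim_inr]

theorem eval₂_rename_symm {R A : Type*} [CommRing R] [CommRing A] (f : R →+* A) (v : Fin N ⊕ Fin N → A)
    (p : MvPolynomial (Fin (N + N)) R) :
    (MvPolynomial.rename finSumFinEquiv.symm p).eval₂ f v = p.eval₂ f (v ∘ finSumFinEquiv.symm) :=
  MvPolynomial.eval₂_rename _ _ _ _

set_option maxHeartbeats 1000000 in
/-- Existence and uniqueness of the group law. -/
theorem existsUnique_groupLaw (he : Function.Injective e)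
    (hrange : ∀ a : D.idx, a ∈ Set.range e ↔ 0 < D.P.root a)
    (hmono : StrictMono fun k => D.P.root (e k)) :
    ∃! Q : Fin N → MvPolynomial (Fin N ⊕ Fin N) Γ(S, ⊤),
      (∀ (X : Over S) (x y z : Fin N → (X ⟶ Red.Ga S)),
        (List.ofFn (fun k => z k ≫ D.u (e k))).prod =
            (List.ofFn (fun k => x k ≫ D.u (e k))).prod * (List.ofFn (fun k => y k ≫ D.u (e k))).prod ↔
          ∀ k, Red.gaFn (z k) = MvPolynomial.eval₂ X.hom.appTop.hom
            (Sum.elim (fun j => Red.gaFn (x j)) (fun j => Red.gaFn (y j))) (Q k)) ∧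
      (∀ k : Fin N, ∀ v ∈ (Q k - MvPolynomial.X (Sum.inl k) - MvPolynomial.X (Sum.inr k)).vars,
        Sum.elim (fun j : Fin N => j < k) (fun j : Fin N => j < k) v) := by
  classical
  obtain ⟨l, n, eneg, hneg, hpos, -, -, ho⟩ := exists_cell_order e he hrange
  haveI := ho
  let F := mulFam e l hpos
  have hwpos : ∀ j, 0 < l (F.wt j) := fun j => by
    rcases h : finSumFinEquiv.symm j with k | k <;> simp [F, mulFam, h, hpos k]
  obtain ⟨Q, hQw, hQ⟩ := exists_weighted (e := eneg) F hneg hpos he hwpos
  let R : Fin N → MvPolynomial (Fin N ⊕ Fin N) Γ(S, ⊤) := fun k => MvPolynomial.rename finSumFinEquiv.symm (Q k)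
  have hiff : ∀ (X : Over S) (x y z : Fin N → (X ⟶ Red.Ga S)),
      (List.ofFn (fun k => z k ≫ D.u (e k))).prod =
          (List.ofFn (fun k => x k ≫ D.u (e k))).prod * (List.ofFn (fun k => y k ≫ D.u (e k))).prod ↔
        ∀ k, Red.gaFn (z k) = MvPolynomial.eval₂ X.hom.appTop.hom
          (Sum.elim (fun j => Red.gaFn (x j)) (fun j => Red.gaFn (y j))) (R k) := by
    intro X x y z
    simp only [ofFn_prod, P_eq, R, eval₂_rename_symm]
    have h := hQ X (Sum.elim (fun j => Red.gaFn (x j)) (fun j => Red.gaFn (y j)) ∘ finSumFinEquiv.symm)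
    simp only [F, mulFam, Function.comp_apply, Equiv.symm_apply_apply, Sum.elim_inl, Sum.elim_inr] at h
    rw [h]
    constructor
    · intro h1 k
      exact congrFun (coords_inj e he hrange _ _ h1) k
    · intro h1
      exact congrArg _ (funext fun k => congrArg _ (h1 k))
  have huniq : ∀ R' : Fin N → MvPolynomial (Fin N ⊕ Fin N) Γ(S, ⊤),
      (∀ (X : Over S) (x y z : Fin N → (X ⟶ Red.Ga S)),
        (List.ofFn (fun k => z k ≫ D.u (e k))).prod =
            (List.ofFn (fun k => x k ≫ D.u (e k))).prod * (List.ofFn (fun k => y k ≫ D.u (e k))).prod ↔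
          ∀ k, Red.gaFn (z k) = MvPolynomial.eval₂ X.hom.appTop.hom
            (Sum.elim (fun j => Red.gaFn (x j)) (fun j => Red.gaFn (y j))) (R' k)) → R' = R := by
    intro R' hR'
    funext k
    refine MvPolynomial.rename_injective (finSumFinEquiv : Fin N ⊕ Fin N → Fin (N + N))
      (Equiv.injective _) (MvPolynomial.ext _ _ fun d => fn_ext_over fun Y hY => ?_)
    haveI := hY
    rw [← MvPolynomial.coeff_map, ← MvPolynomial.coeff_map]
    refine congrArg (MvPolynomial.coeff d)
      ((fn Y (MvPolynomial.C : Γ(Y.left, ⊤) →+* MvPolynomial (Fin (N + N)) Γ(Y.left, ⊤))).injective ?_)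
    set W := aff Y (N + N)
    let x : Fin N → (W ⟶ Red.Ga S) := fun j => Ga.gaPt (affX Y (n := N + N) (finSumFinEquiv (Sum.inl j)))
    let y : Fin N → (W ⟶ Red.Ga S) := fun j => Ga.gaPt (affX Y (n := N + N) (finSumFinEquiv (Sum.inr j)))
    let z : Fin N → (W ⟶ Red.Ga S) := fun k => Ga.gaPt (MvPolynomial.eval₂ W.hom.appTop.hom
      (Sum.elim (fun j => Red.gaFn (x j)) (fun j => Red.gaFn (y j))) (R' k))
    have h1 := (hiff W x y z).1 ((hR' W x y z).2 fun k => Ga.gaFn_gaPt _) k
    simp only [z, Ga.gaFn_gaPt] at h1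
    have key : ∀ p : MvPolynomial (Fin N ⊕ Fin N) Γ(S, ⊤),
        fn Y MvPolynomial.C ((MvPolynomial.rename finSumFinEquiv p).map Y.hom.appTop.hom) =
          MvPolynomial.eval₂ W.hom.appTop.hom
            (Sum.elim (fun j => Red.gaFn (x j)) (fun j => Red.gaFn (y j))) p := by
      intro p
      have e1 : ((fn Y MvPolynomial.C).toRingHom.comp
          ((MvPolynomial.map Y.hom.appTop.hom).comp (MvPolynomial.rename finSumFinEquiv).toRingHom)) =
          MvPolynomial.eval₂Hom W.hom.appTop.hom
            (Sum.elim (fun j => Red.gaFn (x j)) (fun j => Red.gaFn (y j))) := by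
        refine MvPolynomial.ringHom_ext (fun r => ?_) fun i => ?_
        · rw [MvPolynomial.eval₂Hom_C]
          simp only [RingHom.comp_apply, AlgHom.toRingHom_eq_coe, RingHom.coe_coe, MvPolynomial.rename_C,
            MvPolynomial.map_C]
          refine (extHom_fn Y _ _).symm.trans ?_
          rw [← Over.w (extHom Y (MvPolynomial.C : Γ(Y.left, ⊤) →+* MvPolynomial (Fin (N + N)) Γ(Y.left, ⊤))),
            Scheme.Hom.comp_appTop]
          rfl
        · rw [MvPolynomial.eval₂Hom_X']
          rcases i with j | j <;> simp [x, y, Ga.gaFn_gaPt]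
      exact RingHom.congr_fun e1 p
    rw [key, key]
    exact h1
  refine ⟨R, ⟨hiff, fun k v hv => ?_⟩, fun R' hR' => huniq R' hR'.1⟩
  let w : Fin N ⊕ Fin N → D.M := Sum.elim (fun k => D.P.root (e k)) (fun k => D.P.root (e k))
  have hw0 : ∀ i, 0 < w i := fun i => by
    rcases i with j | j <;> exact (hrange _).1 (Set.mem_range_self _)
  have hRw : ∀ d, (R k).coeff d ≠ 0 → Finsupp.weight w d = D.P.root (e k) := fun d hd => by
    obtain ⟨d', rfl, hd'⟩ := MvPolynomial.coeff_rename_ne_zero _ _ _ hd
    rw [← hQw k d' hd']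
    rw [Finsupp.weight_apply, Finsupp.weight_apply, Finsupp.sum_mapDomain_index_inj (Equiv.injective _)]
    rfl
  -- evaluation at a coordinate vector
  have hone : ∀ i : Fin N ⊕ Fin N, w i = D.P.root (e k) → (R k).coeff (Finsupp.single i 1) = 1 := by
    intro i hi
    let δ : Fin N ⊕ Fin N → (Over.mk (𝟙 S) ⟶ Red.Ga S) := fun q => if q = i then Ga.gaPt 1 else 1
    let z : Fin N → (Over.mk (𝟙 S) ⟶ Red.Ga S) := fun q => if q = k then Ga.gaPt 1 else 1
    have hik : i = Sum.inl k ∨ i = Sum.inr k := by
      rcases i with j | j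
      · exact Or.inl (congrArg _ (hmono.injective hi))
      · exact Or.inr (congrArg _ (hmono.injective hi))
    have h1 : (List.ofFn (fun q => z q ≫ D.u (e q))).prod =
        (List.ofFn (fun q => δ (Sum.inl q) ≫ D.u (e q))).prod *
          (List.ofFn (fun q => δ (Sum.inr q) ≫ D.u (e q))).prod := by
      have hz : prodPts N (fun _ : Fin N => (1 : Over.mk (𝟙 S) ⟶ G)) = 1 := prodPts_one fun _ => rfl
      simp only [ofFn_prod]
      rcases hik with rfl | rfl
      · simp only [δ, z, Sum.inl.injEq, reduceCtorEq, if_false, MonObj.one_comp, hz, _root_.mul_one]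
      · simp only [δ, z, Sum.inr.injEq, reduceCtorEq, if_false, MonObj.one_comp, hz, _root_.one_mul]
    have h2 := (hiff _ _ _ _).1 h1 k
    simp only [z, if_true, Ga.gaFn_gaPt] at h2
    have h3 : ∀ q, Sum.elim (fun j => Red.gaFn (δ (Sum.inl j))) (fun j => Red.gaFn (δ (Sum.inr j))) q =
        if q = i then (1 : Γ((Over.mk (𝟙 S)).left, ⊤)) else 0 := fun q => by
      rcases q with j | j <;> simp only [Sum.elim_inl, Sum.elim_inr, δ] <;> split_ifs <;>
        simp [Ga.gaFn_gaPt, Ga.gaFn_one]
    rw [MvPolynomial.eval₂_eq', Finset.sum_eq_single (Finsupp.single i 1)] at h2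
    · rw [h2, Finset.prod_eq_one, _root_.mul_one]
      · simp
      · intro q _
        rw [h3, Finsupp.single_apply]
        by_cases hq : q = i <;> simp [hq, Ne.symm]
    · intro d hd hne
      obtain ⟨q, hq, hqi⟩ : ∃ q, d q ≠ 0 ∧ q ≠ i := by
        by_contra h
        push Not at h
        have hdi : d i ≠ 0 := fun h0 => by
          have hd0 : d = 0 := Finsupp.ext fun q => by
            by_contra hq; exact hq ((h q hq).symm ▸ h0)
          have := hRw d (MvPolynomial.mem_support_iff.1 hd)
          rw [hd0, map_zero] at this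
          exact D.P.ne_zero _ this.symm
        exact hne (eq_single_of_weight hw0 (hRw d (MvPolynomial.mem_support_iff.1 hd)) hdi hi.ge).1
      rw [Finset.prod_eq_zero (Finset.mem_univ q), MulZeroClass.mul_zero]
      rw [h3, if_neg hqi, zero_pow hq]
    · intro h
      rw [MvPolynomial.notMem_support_iff.1 h, map_zero, MulZeroClass.zero_mul]
  -- triangularity
  obtain ⟨d, hd, hdv⟩ := (MvPolynomial.mem_vars v).1 hv
  rw [MvPolynomial.mem_support_iff, MvPolynomial.coeff_sub, MvPolynomial.coeff_sub,
    MvPolynomial.coeff_X', MvPolynomial.coeff_X'] at hd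
  have hdv' : d v ≠ 0 := Finsupp.mem_support_iff.1 hdv
  by_contra hlt
  have hkv : D.P.root (e k) ≤ w v := by
    rcases v with j | j <;> exact hmono.monotone (not_lt.1 hlt)
  have hsingle : ∀ q : Fin N ⊕ Fin N, Finsupp.single q 1 = d →
      ((R k).coeff d ≠ 0 → w q = D.P.root (e k)) := fun q hq h => by
    have := hRw d h
    rwa [← hq, Finsupp.weight_single, one_smul] at this
  by_cases hR : (R k).coeff d = 0
  · have hl : Finsupp.single (Sum.inl k) 1 ≠ d := fun h => by
      have := hone (Sum.inl k) rfl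
      rw [h, hR] at this
      rw [hR, if_pos h, if_neg (fun h' => by
        simpa using Finsupp.single_left_injective one_ne_zero (h.trans h'.symm))] at hd
      simp [← this] at hd
    have hr : Finsupp.single (Sum.inr k) 1 ≠ d := fun h => by
      have := hone (Sum.inr k) rfl
      rw [h, hR] at this
      rw [hR, if_neg hl, if_pos h] at hd
      simp [← this] at hd
    rw [hR, if_neg hl, if_neg hr] at hd
    simp at hd
  · obtain ⟨rfl, hwv⟩ := eq_single_of_weight hw0 (hRw d hR) hdv' hkv
    have h1 := hone v hwv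
    have hv' : v = Sum.inl k ∨ v = Sum.inr k := by
      rcases v with j | j
      · exact Or.inl (congrArg _ (hmono.injective hwv))
      · exact Or.inr (congrArg _ (hmono.injective hwv))
    have hne : Finsupp.single (Sum.inl k : Fin N ⊕ Fin N) 1 ≠ Finsupp.single (Sum.inr k) 1 := fun h => by
      simpa using Finsupp.single_left_injective one_ne_zero h
    rcases hv' with rfl | rfl
    · rw [h1, if_pos rfl, if_neg hne.symm, sub_self, sub_zero] at hd
      exact hd rfl
    · rw [h1, if_neg hne, if_pos rfl, sub_zero, sub_self] at hd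
      exact hd rfl

end Groth.Agent.H82.Order
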