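import Groth.Agent.H82.Order.Coords
import Groth.Agent.H82.Weyl.Unique

/-!
# Families of homomorphisms on the root groups satisfying the relations
-/

set_option autoImplicit false
set_option linter.style.haveILetI false
set_option linter.unusedSectionVars false
universe u

open CategoryTheory MonoidalCategory CartesianMonoidalCategory MonObj GrpObj AlgebraicGeometry
open Groth.Agent.Lib.RedPts Groth.Agent.H82.BigCell Groth.Agent.H82.Contract
open Groth.Agent.H82.RankOne (P P_eq P_zero P_comp P_add P_neg)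
open scoped commutatorElement

namespace Groth.Agent.H82.Order

variable {S : Scheme.{u}} {G H : Over S} [GrpObj G] [GrpObj H] {D : Red.SplitRed G}
variable [LinearOrder D.M] [IsOrderedAddMonoid D.M] {N : ℕ} (e : Fin N → D.idx) (f : Fin N → (Red.Ga S ⟶ H))

/-- A pair of corresponding root elements. -/
noncomputable def pr {X : Over S} (k : Fin N) (r : Γ(X.left, ⊤)) : (X ⟶ G) × (X ⟶ H) :=
  (P (D.u (e k)) r, P (f k) r)

/-- The graph generated by pairs of index at least `i`. -/
noncomputable def graph (X : Over S) (i : ℕ) : Subgroup ((X ⟶ G) × (X ⟶ H)) :=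
  Subgroup.closure {g | ∃ (k : Fin N) (r : Γ(X.left, ⊤)), i ≤ (k : ℕ) ∧ g = pr e f k r}

theorem pr_mem_graph {X : Over S} {i : ℕ} (k : Fin N) (h : i ≤ (k : ℕ)) (r : Γ(X.left, ⊤)) :
    pr e f k r ∈ graph e f X i := Subgroup.subset_closure ⟨k, r, h, rfl⟩

theorem list_mem_graph {X : Over S} {i : ℕ} {q : ℕ} (c : Fin q → Fin N) (hc : ∀ j, i ≤ (c j : ℕ))
    (r : Fin q → Γ(X.left, ⊤)) :
    (prodPts q (fun j => P (D.u (e (c j))) (r j)), prodPts q (fun j => P (f (c j)) (r j))) ∈ graph e f X i := by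
  induction q with
  | zero =>
    rw [prodPts_zero, prodPts_zero, Prod.mk_one_one]
    exact one_mem _
  | succ q ih =>
    have h := mul_mem (pr_mem_graph e f (c 0) (hc 0) (r 0))
      (ih (fun j => c j.succ) (fun j => hc _) fun j => r j.succ)
    rw [pr, Prod.mk_mul_mk] at h
    rw [prodPts_succ, prodPts_succ]
    exact h

variable (he : Function.Injective e) (hrange : ∀ a : D.idx, a ∈ Set.range e ↔ 0 < D.P.root a)
  (hmono : StrictMono fun k => D.P.root (e k)) (hf : ∀ k, IsMonHom (f k))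
  (hrel : ∀ (X : Over S) (i j : Fin N), i < j → ∀ (a c : Γ(X.left, ⊤)) (z : Fin N → Γ(X.left, ⊤)),
    prodPts N (fun k => P (D.u (e k)) (z k)) =
        P (D.u (e j)) c * P (D.u (e i)) a * (P (D.u (e j)) c)⁻¹ →
      prodPts N (fun k => P (f k) (z k)) = P (f j) c * P (f i) a * (P (f j) c)⁻¹)

include he hrange hmono hf in
theorem pr_zero {X : Over S} (k : Fin N) : pr e f k (0 : Γ(X.left, ⊤)) = 1 := by
  haveI := hf k
  exact Prod.ext (P_zero _) (P_zero _)

include he hrange hmono hf in
theorem pr_add {X : Over S} (k : Fin N) (r s : Γ(X.left, ⊤)) : pr e f k (r + s) = pr e f k r * pr e f k s := by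
  haveI := hf k
  exact Prod.ext (P_add _ _ _) (P_add _ _ _)

include he hrange hmono hf in
theorem pr_neg {X : Over S} (k : Fin N) (r : Γ(X.left, ⊤)) : pr e f k (-r) = (pr e f k r)⁻¹ :=
  eq_inv_of_mul_eq_one_left (by rw [← pr_add e f he hrange hmono hf, neg_add_cancel, pr_zero e f he hrange hmono hf])

include he hrange hmono hf in
/-- An element of a later step, conjugate of a later root element, in coordinates. -/
theorem exists_split {X : Over S} {i : Fin N} {g : X ⟶ G} {a : Γ(X.left, ⊤)}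
    (hg : (P (D.u (e i)) a)⁻¹ * g ∈ upper e X ((i : ℕ) + 1)) :
    ∃ z : Fin N → Γ(X.left, ⊤), prodPts N (fun k => P (D.u (e k)) (z k)) = g ∧
      ∃ p : (X ⟶ G) × (X ⟶ H), p ∈ graph e f X ((i : ℕ) + 1) ∧
        (g, prodPts N (fun k => P (f k) (z k))) = pr e f i a * p := by
  classical
  obtain ⟨w, hw⟩ := exists_coords e hrange hmono (m := N - ((i : ℕ) + 1)) (i := (i : ℕ) + 1)
    (by omega) hg
  let z : Fin N → Γ(X.left, ⊤) := fun k =>
    if h : (i : ℕ) < (k : ℕ) then w ⟨(k : ℕ) - ((i : ℕ) + 1), by omega⟩ else if k = i then a else 0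
  have key : ∀ (K : Over S) [GrpObj K] (F : Fin N → (Red.Ga S ⟶ K)), (∀ k, IsMonHom (F k)) →
      prodPts N (fun k => P (F k) (z k)) = P (F i) a * prodPts (N - ((i : ℕ) + 1))
        (fun k => P (F (Fin.cast (by omega : (i : ℕ) + 1 + (N - ((i : ℕ) + 1)) = N) (Fin.natAdd _ k))) (w k)) := by
    intro K _ F hF
    have hN : (i : ℕ) + 1 + (N - ((i : ℕ) + 1)) = N := by omega
    have hcast : ∀ (q : ℕ) (h : q = N) (b : Fin N → (X ⟶ K)), prodPts q (b ∘ Fin.cast h) = prodPts N b := by
      rintro q rfl b; rfl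
    rw [← hcast _ hN]
    have e1 : (fun k => P (F k) (z k)) ∘ Fin.cast hN = Fin.append
        (fun q : Fin ((i : ℕ) + 1) => P (F ⟨q, by omega⟩) (z ⟨q, by omega⟩))
        (fun q => P (F (Fin.cast hN (Fin.natAdd _ q))) (w q)) := by
      funext q
      refine Fin.addCases (fun r => ?_) (fun r => ?_) q
      · rw [Fin.append_left]; rfl
      · rw [Fin.append_right, Function.comp_apply]
        refine congrArg _ ?_
        simp only [z, Fin.val_cast, Fin.val_natAdd]
        rw [dif_pos (by omega)]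
        exact congrArg w (Fin.ext (by simp))
    rw [e1, Weyl.prodPts_append, Weyl.prodPts_single (Fin.last _) fun q hq => ?_]
    · refine congrArg (· * _) ?_
      simp [z]
    · haveI := hF ⟨q, by omega⟩
      have hq' : (q : ℕ) < (i : ℕ) := by
        have h := Fin.lt_last_iff_ne_last.2 hq
        rwa [Fin.lt_def, Fin.val_last] at h
      simp only [z]
      rw [dif_neg (by simp; omega), if_neg (fun h => by simp [Fin.ext_iff] at h; omega), P_zero]
  have h1 := key G (fun k => D.u (e k)) fun k => inferInstance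
  have h2 := key H f hf
  rw [← hw, mul_inv_cancel_left] at h1
  refine ⟨z, h1, _, list_mem_graph e f (i := (i : ℕ) + 1)
    (fun k => Fin.cast (by omega : (i : ℕ) + 1 + (N - ((i : ℕ) + 1)) = N) (Fin.natAdd _ k)) (fun j => by simp) w, ?_⟩
  exact Prod.ext (by simp only [pr, Prod.fst_mul, ← hw, mul_inv_cancel_left]) h2

include he hrange hmono hf hrel in
theorem conj_graph {X : Over S} {i : Fin N} (a : Γ(X.left, ⊤)) :
    ∀ g ∈ graph e f X ((i : ℕ) + 1), (pr e f i a)⁻¹ * g * pr e f i a ∈ graph e f X ((i : ℕ) + 1) := by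
  intro g hg
  induction hg using Subgroup.closure_induction with
  | one => simp
  | mul g g' _ _ ihg ihg' =>
    rw [show (pr e f i a)⁻¹ * (g * g') * pr e f i a =
      ((pr e f i a)⁻¹ * g * pr e f i a) * ((pr e f i a)⁻¹ * g' * pr e f i a) by group]
    exact mul_mem ihg ihg'
  | inv g _ ihg =>
    rw [show (pr e f i a)⁻¹ * g⁻¹ * pr e f i a = ((pr e f i a)⁻¹ * g * pr e f i a)⁻¹ by group]
    exact inv_mem ihg
  | mem g hg =>
    obtain ⟨j, c, hj, rfl⟩ := hg
    set x := P (D.u (e j)) c
    set y := P (D.u (e i)) a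
    have hmem : y⁻¹ * (x * y * x⁻¹) ∈ upper e X ((i : ℕ) + 1) := by
      have h1 := conj_upper e hrange hmono _ (inv_mem (root_mem_upper e i (Nat.zero_le _) a)) x
        (root_mem_upper e j hj c)
      rw [_root_.inv_inv] at h1
      rw [show y⁻¹ * (x * y * x⁻¹) = (y⁻¹ * x * y) * x⁻¹ by group]
      exact mul_mem h1 (inv_mem (root_mem_upper e j hj c))
    obtain ⟨z, hz, p, hp, hzp⟩ := exists_split e f he hrange hmono hf (g := x * y * x⁻¹) hmem
    have h2 := hrel X i j (by rw [Fin.lt_def]; omega) a c z hz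
    rw [h2] at hzp
    have h3 : pr e f j c * pr e f i a * (pr e f j c)⁻¹ = pr e f i a * p := hzp
    rw [show (pr e f i a)⁻¹ * pr e f j c * pr e f i a =
      (pr e f i a)⁻¹ * (pr e f j c * pr e f i a * (pr e f j c)⁻¹) * pr e f j c by group, h3, inv_mul_cancel_left]
    exact mul_mem hp (pr_mem_graph e f j hj c)

include he hrange hmono hf hrel in
theorem exists_head_graph {X : Over S} {i : Fin N} {g : (X ⟶ G) × (X ⟶ H)} (hg : g ∈ graph e f X i) :
    ∃ (r : Γ(X.left, ⊤)) (h : (X ⟶ G) × (X ⟶ H)), h ∈ graph e f X ((i : ℕ) + 1) ∧ g = pr e f i r * h := by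
  have hC := fun r h hh => conj_graph e f he hrange hmono hf hrel (X := X) (i := i) r h hh
  induction hg using Subgroup.closure_induction with
  | mem g hg =>
    obtain ⟨k, s, hk, rfl⟩ := hg
    rcases hk.eq_or_lt with h | h
    · rw [← Fin.ext h]
      exact ⟨s, 1, one_mem _, (_root_.mul_one _).symm⟩
    · exact ⟨0, _, pr_mem_graph e f k h s, by rw [pr_zero e f he hrange hmono hf, _root_.one_mul]⟩
  | one => exact ⟨0, 1, one_mem _, by rw [pr_zero e f he hrange hmono hf, _root_.one_mul]⟩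
  | mul a b _ _ iha ihb =>
    obtain ⟨r, h, hh, rfl⟩ := iha
    obtain ⟨r', h', hh', rfl⟩ := ihb
    refine ⟨r + r', ((pr e f i r')⁻¹ * h * pr e f i r') * h', mul_mem (hC r' h hh) hh', ?_⟩
    rw [pr_add e f he hrange hmono hf]; group
  | inv a _ iha =>
    obtain ⟨r, h, hh, rfl⟩ := iha
    refine ⟨-r, (pr e f i (-r))⁻¹ * h⁻¹ * pr e f i (-r), hC _ _ (inv_mem hh), ?_⟩
    rw [pr_neg e f he hrange hmono hf]; group

include he hrange hmono hf hrel in
/-- Every element of the graph is an ordered product of pairs. -/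
theorem exists_coords_graph {X : Over S} : ∀ {m i : ℕ} (h : i + m = N) {g : (X ⟶ G) × (X ⟶ H)}, g ∈ graph e f X i →
    ∃ z : Fin m → Γ(X.left, ⊤), g = (prodPts m (fun k => P (D.u (e (Fin.cast h (Fin.natAdd i k)))) (z k)),
      prodPts m (fun k => P (f (Fin.cast h (Fin.natAdd i k))) (z k)))
  | 0, i, h, g, hg => by
    refine ⟨Fin.elim0, ?_⟩
    have : graph e f X i = ⊥ := by
      refine le_bot_iff.1 ((Subgroup.closure_le _).2 ?_)
      rintro g ⟨k, r, hk, -⟩
      exact absurd k.2 (by omega)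
    rw [this, Subgroup.mem_bot] at hg
    rw [hg]; rfl
  | m + 1, i, h, g, hg => by
    obtain ⟨r, g', hg', rfl⟩ := exists_head_graph e f he hrange hmono hf hrel (i := ⟨i, by omega⟩) hg
    obtain ⟨z, rfl⟩ := exists_coords_graph (m := m) (i := i + 1) (by omega) hg'
    refine ⟨Fin.cons r z, ?_⟩
    have ht : (⟨i, by omega⟩ : Fin N) = Fin.cast h (Fin.natAdd i 0) := Fin.ext (by simp)
    have hk : ∀ k : Fin m, Fin.cast (by omega : i + 1 + m = N) (Fin.natAdd (i + 1) k) =
        Fin.cast h (Fin.natAdd i k.succ) := fun k => Fin.ext (by simp; omega)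
    rw [prodPts_succ, prodPts_succ]
    simp only [pr, Prod.mk_mul_mk, Fin.cons_zero, Fin.cons_succ, hk, ← ht]

include he hrange hmono hf hrel in
/-- The map of ordered products is multiplicative. -/
theorem mul_of_relations {X : Over S} (x y z : Fin N → Γ(X.left, ⊤))
    (h : prodPts N (fun k => P (D.u (e k)) (z k)) =
      prodPts N (fun k => P (D.u (e k)) (x k)) * prodPts N (fun k => P (D.u (e k)) (y k))) :
    prodPts N (fun k => P (f k) (z k)) = prodPts N (fun k => P (f k) (x k)) * prodPts N (fun k => P (f k) (y k)) := by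
  obtain ⟨w, hw⟩ := exists_coords_graph e f he hrange hmono hf hrel (X := X) (m := N) (i := 0) (Nat.zero_add N)
    (mul_mem (list_mem_graph e f (i := 0) id (fun _ => Nat.zero_le _) x)
      (list_mem_graph e f (i := 0) id (fun _ => Nat.zero_le _) y))
  have hid : ∀ k : Fin N, Fin.cast (Nat.zero_add N) (Fin.natAdd 0 k) = k := fun k => Fin.ext (by simp)
  simp only [hid, Prod.mk_mul_mk, id, Prod.mk.injEq] at hw
  rw [hw.1] at h
  rw [coords_inj e he hrange _ _ h, hw.2]

end Groth.Agent.H82.Order
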