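import Groth.Agent.H82.Order.CommMem
import Groth.Agent.H82.Reduced.Setup
import Groth.Agent.H82.Weyl.CommFormula
import Groth.Agent.Lib.RootDatum.PosSys

/-!
# The filtration by level of the group of a closed set of roots
-/

set_option autoImplicit false
set_option linter.style.haveILetI false
set_option linter.unusedSectionVars false
universe u

open CategoryTheory MonoidalCategory CartesianMonoidalCategory MonObj GrpObj AlgebraicGeometry
open Groth.Agent.Lib.RedPts Groth.Agent.H82.BigCell Groth.Agent.H82.Contract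
open Groth.Agent.H82.RankOne (P P_eq P_zero P_comp P_add P_neg)
open scoped commutatorElement

namespace Groth.Agent.H82.Order.Level

variable {S : Scheme.{u}} {G : Over S} [GrpObj G] {D : Red.SplitRed G} (Ψ : Set D.idx) (lam : D.M →+ ℤ)

/-- The subgroup generated by the root elements of level at least `n`. -/
noncomputable def V (X : Over S) (n : ℤ) : Subgroup (X ⟶ G) :=
  Subgroup.closure {g | ∃ (c : D.idx) (r : Γ(X.left, ⊤)), c ∈ Ψ ∧ n ≤ lam (D.P.root c) ∧ g = P (D.u c) r}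

theorem mem_V {X : Over S} {n : ℤ} {c : D.idx} (hc : c ∈ Ψ) (h : n ≤ lam (D.P.root c)) (r : Γ(X.left, ⊤)) :
    P (D.u c) r ∈ V Ψ lam X n := Subgroup.subset_closure ⟨c, r, hc, h, rfl⟩

theorem V_anti (X : Over S) {n n' : ℤ} (h : n ≤ n') : V Ψ lam X n' ≤ V Ψ lam X n :=
  Subgroup.closure_mono fun _ ⟨c, r, hc, hle, hg⟩ => ⟨c, r, hc, h.trans hle, hg⟩

variable (hd : ∀ i ∈ Ψ, D.P.reflectionPerm i i ∉ Ψ) (hcl : RootD.IsClosedSub D.P Ψ)
  (hl : ∀ c, lam (D.P.root c) ≠ 0) (hpos : ∀ c ∈ Ψ, 0 < lam (D.P.root c))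
include hd hcl hl hpos

theorem comm_root {X : Over S} {a b : D.idx} (ha : a ∈ Ψ) (hb : b ∈ Ψ) {n : ℤ}
    (hn : n ≤ lam (D.P.root a) + lam (D.P.root b)) (x y : Γ(X.left, ⊤)) :
    ⁅P (D.u b) y, P (D.u a) x⁆ ∈ V Ψ lam X n := by
  refine commutator_mem hl (hpos a ha) (hpos b hb) _ (fun c p q hp hq hc r => mem_V Ψ lam ?_ ?_ r) x y
  · refine Groth.Agent.Lib.RootDatum.PosSys.mem_of_natSpan D.P hcl ?_
    rw [hc]
    exact AddSubmonoid.add_mem _ (AddSubmonoid.nsmul_mem _ (AddSubmonoid.subset_closure (s := D.P.root '' Ψ) ⟨a, ha, rfl⟩) p)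
      (AddSubmonoid.nsmul_mem _ (AddSubmonoid.subset_closure (s := D.P.root '' Ψ) ⟨b, hb, rfl⟩) q)
  · rw [hc, map_add, map_nsmul, map_nsmul, nsmul_eq_mul, nsmul_eq_mul]
    have h1 := hpos a ha
    have h2 := hpos b hb
    have hp' : (1 : ℤ) ≤ (p : ℤ) := by exact_mod_cast hp
    have hq' : (1 : ℤ) ≤ (q : ℤ) := by exact_mod_cast hq
    nlinarith

theorem conj_both {X : Over S} {n : ℤ} {y : X ⟶ G} (hy : y ∈ V Ψ lam X n) :
    ∀ g ∈ V Ψ lam X (n + 1), y * g * y⁻¹ ∈ V Ψ lam X (n + 1) ∧ y⁻¹ * g * y ∈ V Ψ lam X (n + 1) := by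
  have h : ∀ a ∈ Ψ, ∀ (r : Γ(X.left, ⊤)), ∀ g ∈ V Ψ lam X (n + 1),
      P (D.u a) r * g * (P (D.u a) r)⁻¹ ∈ V Ψ lam X (n + 1) := by
    intro a ha r g hg
    induction hg using Subgroup.closure_induction with
    | mem g hg =>
      obtain ⟨c, s, hc, hle, rfl⟩ := hg
      rw [show P (D.u a) r * P (D.u c) s * (P (D.u a) r)⁻¹ =
        ⁅P (D.u a) r, P (D.u c) s⁆ * P (D.u c) s by rw [commutatorElement_def]; group]
      refine mul_mem ?_ (mem_V Ψ lam hc hle s)
      exact comm_root Ψ lam hd hcl hl hpos hc ha (by have := hpos a ha; omega) s r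
    | one => simp
    | mul p q _ _ hp hq => convert mul_mem hp hq using 1; group
    | inv p _ hp => convert inv_mem hp using 1; group
  induction hy using Subgroup.closure_induction with
  | mem y hy =>
    obtain ⟨a, r, ha, -, rfl⟩ := hy
    haveI : IsMonHom (D.u a) := (D.rootHom a).1
    refine fun g hg => ⟨h a ha r g hg, ?_⟩
    have := h a ha (-r) g hg
    rwa [P_neg, _root_.inv_inv] at this
  | one => exact fun g hg => by simpa using hg
  | mul p q _ _ hp hq =>
    refine fun g hg => ⟨?_, ?_⟩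
    · convert (hp _ (hq g hg).1).1 using 1; group
    · convert (hq _ (hp g hg).2).2 using 1; group
  | inv p _ hp => exact fun g hg => ⟨by simpa using (hp g hg).2, by simpa using (hp g hg).1⟩

theorem comm_V {X : Over S} {n : ℤ} (hn : 0 ≤ n) {y z : X ⟶ G} (hy : y ∈ V Ψ lam X n) (hz : z ∈ V Ψ lam X n) :
    ⁅y, z⁆ ∈ V Ψ lam X (n + 1) := by
  have hroot : ∀ (a : D.idx) (r : Γ(X.left, ⊤)), a ∈ Ψ → n ≤ lam (D.P.root a) →
      ∀ q ∈ V Ψ lam X n, ⁅P (D.u a) r, q⁆ ∈ V Ψ lam X (n + 1) := by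
    intro a r ha hna q hq
    induction hq using Subgroup.closure_induction with
    | mem q hq =>
      obtain ⟨c, s, hc, hnc, rfl⟩ := hq
      exact comm_root Ψ lam hd hcl hl hpos hc ha (by have := hpos a ha; have := hpos c hc; omega) s r
    | one => simp
    | mul p q hp _ ihp ihq =>
      convert mul_mem ihp (conj_both Ψ lam hd hcl hl hpos hp _ ihq).1 using 1
      rw [commutatorElement_def, commutatorElement_def, commutatorElement_def]; group
    | inv p hp ihp =>
      convert (conj_both Ψ lam hd hcl hl hpos hp _ (inv_mem ihp)).2 using 1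
      rw [commutatorElement_def, commutatorElement_def]; group
  induction hy using Subgroup.closure_induction with
  | mem y hy => obtain ⟨a, r, ha, hna, rfl⟩ := hy; exact hroot a r ha hna z hz
  | one => simp
  | mul p q hp _ ihp ihq =>
    convert mul_mem (conj_both Ψ lam hd hcl hl hpos hp _ ihq).1 ihp using 1
    rw [commutatorElement_def, commutatorElement_def, commutatorElement_def]; group
  | inv p hp ihp =>
    convert (conj_both Ψ lam hd hcl hl hpos hp _ (inv_mem ihp)).2 using 1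
    rw [commutatorElement_def, commutatorElement_def]; group

theorem mul_head {X : Over S} {n : ℤ} (hn : 0 ≤ n) : ∀ {k : ℕ} {e : Fin k → D.idx},
    (∀ i, e i ∈ Ψ ∧ lam (D.P.root (e i)) = n) → ∀ x x' : Fin k → Γ(X.left, ⊤),
      ∃ h ∈ V Ψ lam X (n + 1), prodPts k (fun i => P (D.u (e i)) (x i)) * prodPts k (fun i => P (D.u (e i)) (x' i)) =
        prodPts k (fun i => P (D.u (e i)) (x i + x' i)) * h
  | 0, _, _, x, x' => ⟨1, one_mem _, by simp⟩
  | k + 1, e, he, x, x' => by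
    haveI : IsMonHom (D.u (e 0)) := (D.rootHom (e 0)).1
    obtain ⟨h, hh, heq⟩ := mul_head hn (e := fun i => e i.succ) (fun i => he i.succ) (fun i => x i.succ) (fun i => x' i.succ)
    rw [prodPts_succ, prodPts_succ, prodPts_succ, P_add]
    set A := prodPts k (fun i => P (D.u (e i.succ)) (x i.succ)) with hA
    set A' := prodPts k (fun i => P (D.u (e i.succ)) (x' i.succ)) with hA'
    set a' := P (D.u (e 0)) (x' 0)
    have hAm : A ∈ V Ψ lam X n := by
      rw [hA]; exact prodPts_mem _ fun i => mem_V Ψ lam (he i.succ).1 (he i.succ).2.ge _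
    have hA'm : A' ∈ V Ψ lam X n := by
      rw [hA']; exact prodPts_mem _ fun i => mem_V Ψ lam (he i.succ).1 (he i.succ).2.ge _
    have ha'm : a' ∈ V Ψ lam X n := mem_V Ψ lam (he 0).1 (he 0).2.ge _
    have hc := (conj_both Ψ lam hd hcl hl hpos hA'm _
      (comm_V Ψ lam hd hcl hl hpos hn (inv_mem hAm) (inv_mem ha'm))).2
    refine ⟨_, mul_mem hh hc, ?_⟩
    simp only [_root_.mul_assoc] at heq ⊢
    rw [← (show A * (A' * (A'⁻¹ * (⁅A⁻¹, a'⁻¹⁆ * A'))) = prodPts k (fun i => P (D.u (e i.succ)) (x i.succ + x' i.succ)) * (h * (A'⁻¹ * (⁅A⁻¹, a'⁻¹⁆ * A'))) by rw [← _root_.mul_assoc A, heq, _root_.mul_assoc])]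
    simp only [commutatorElement_def, _root_.inv_inv]
    group

theorem exists_split {X : Over S} {n : ℤ} (hn : 0 ≤ n) {k : ℕ} {e : Fin k → D.idx}
    (he : RedSub.Enumerates {a | a ∈ Ψ ∧ lam (D.P.root a) = n} e) {g : X ⟶ G} (hg : g ∈ V Ψ lam X n) :
    ∃ x : Fin k → Γ(X.left, ⊤), ∃ h ∈ V Ψ lam X (n + 1), g = prodPts k (fun i => P (D.u (e i)) (x i)) * h := by
  classical
  haveI : ∀ c, IsMonHom (D.u c) := fun c => (D.rootHom c).1
  have hek : ∀ i, e i ∈ Ψ ∧ lam (D.P.root (e i)) = n := fun i => Set.ext_iff.1 he.2 _ |>.1 (Set.mem_range_self i)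
  have hP : ∀ x : Fin k → Γ(X.left, ⊤), prodPts k (fun i => P (D.u (e i)) (x i)) ∈ V Ψ lam X n := fun x =>
    prodPts_mem _ fun i => mem_V Ψ lam (hek i).1 (hek i).2.ge _
  induction hg using Subgroup.closure_induction with
  | mem g hg =>
    obtain ⟨c, r, hc, hle, rfl⟩ := hg
    rcases hle.eq_or_lt with heq | hlt
    · obtain ⟨i, rfl⟩ := Set.ext_iff.1 he.2 c |>.2 ⟨hc, heq.symm⟩
      refine ⟨Pi.single i r, 1, one_mem _, ?_⟩
      rw [_root_.mul_one]
      clear hP hek heq hle hc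
      obtain ⟨he1, -⟩ := he
      clear he1
      induction k with
      | zero => exact i.elim0
      | succ k ih =>
        rw [prodPts_succ]
        refine Fin.cases ?_ (fun j => ?_) i
        · rw [prodPts_one (fun m => by rw [Pi.single_eq_of_ne (Fin.succ_ne_zero m), P_zero]), Pi.single_eq_same,
            _root_.mul_one]
        · rw [Pi.single_eq_of_ne (Fin.succ_ne_zero j).symm, P_zero, _root_.one_mul, ih (e := fun m => e m.succ) j]
          refine congrArg _ (funext fun m => ?_)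
          rcases eq_or_ne m j with rfl | h
          · rw [Pi.single_eq_same, Pi.single_eq_same]
          · rw [Pi.single_eq_of_ne h, Pi.single_eq_of_ne (fun h' => h (Fin.succ_injective _ h'))]
    · refine ⟨0, P (D.u c) r, mem_V Ψ lam hc (by omega) r, ?_⟩
      rw [prodPts_one (fun m => by rw [Pi.zero_apply, P_zero]), _root_.one_mul]
  | one => exact ⟨0, 1, one_mem _, by rw [prodPts_one (fun m => by rw [Pi.zero_apply, P_zero]), _root_.one_mul]⟩
  | mul p q _ _ hp hq =>
    obtain ⟨x, h, hh, rfl⟩ := hp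
    obtain ⟨x', h', hh', rfl⟩ := hq
    obtain ⟨h'', hh'', e2⟩ := mul_head Ψ lam hd hcl hl hpos hn hek x x'
    refine ⟨fun i => x i + x' i, h'' * ((prodPts k (fun i => P (D.u (e i)) (x' i)))⁻¹ * h *
      prodPts k (fun i => P (D.u (e i)) (x' i))) * h',
      mul_mem (mul_mem hh'' (conj_both Ψ lam hd hcl hl hpos (hP x') h hh).2) hh', ?_⟩
    simp only [← _root_.mul_assoc]
    rw [← e2]
    group
  | inv p _ hp =>
    obtain ⟨x, h, hh, rfl⟩ := hp
    obtain ⟨h'', hh'', e2⟩ := mul_head Ψ lam hd hcl hl hpos hn hek x (fun i => - x i)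
    have h1 : prodPts k (fun i => P (D.u (e i)) (x i + -x i)) = (1 : X ⟶ G) :=
      prodPts_one fun m => by rw [add_neg_cancel, P_zero]
    rw [h1, _root_.one_mul] at e2
    have e3 : (prodPts k (fun i => P (D.u (e i)) (x i)))⁻¹ =
        prodPts k (fun i => P (D.u (e i)) (-x i)) * h''⁻¹ := by
      rw [← e2]; group
    refine ⟨fun i => -x i, (h''⁻¹) * ((prodPts k (fun i => P (D.u (e i)) (x i))) * h⁻¹ *
      (prodPts k (fun i => P (D.u (e i)) (x i)))⁻¹),
      mul_mem (inv_mem hh'') (conj_both Ψ lam hd hcl hl hpos (hP x) _ (inv_mem hh)).1, ?_⟩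
    rw [← _root_.mul_assoc, ← e3]
    group

omit hd hcl hl hpos in
theorem prodPts_single {X : Over S} : ∀ {k : ℕ} (e : Fin k → D.idx) (i : Fin k) (r : Γ(X.left, ⊤)),
    prodPts k (fun m => P (D.u (e m)) ((Pi.single i r : Fin k → Γ(X.left, ⊤)) m)) = P (D.u (e i)) r
  | 0, _, i, _ => i.elim0
  | k + 1, e, i, r => by
    classical
    haveI : ∀ c, IsMonHom (D.u c) := fun c => (D.rootHom c).1
    rw [prodPts_succ]
    refine Fin.cases ?_ (fun j => ?_) i
    · rw [prodPts_one (fun m => by rw [Pi.single_eq_of_ne (Fin.succ_ne_zero m), P_zero]), Pi.single_eq_same,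
        _root_.mul_one]
    · rw [Pi.single_eq_of_ne (Fin.succ_ne_zero j).symm, P_zero, _root_.one_mul,
        ← prodPts_single (fun m => e m.succ) j r]
      refine congrArg _ (funext fun m => ?_)
      rcases eq_or_ne m j with rfl | h
      · rw [Pi.single_eq_same, Pi.single_eq_same]
      · rw [Pi.single_eq_of_ne h, Pi.single_eq_of_ne (fun h' => h (Fin.succ_injective _ h'))]

omit hd hcl hl hpos in
theorem mem_iff {n : ℤ} {m : ℕ} {e : Fin m → D.idx}
    (he : RedSub.Enumerates {a | a ∈ Ψ ∧ n ≤ lam (D.P.root a)} e) {U : Over S} [GrpObj U] (v : U ⟶ G) [IsMonHom v]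
    (ψ : RedSub.pow (Red.Ga S) m ≅ U) (hψ : ψ.hom ≫ v = RedSub.prodMap (Red.Ga S) m (fun k => D.u (e k)))
    (X : Over S) (g : X ⟶ G) : g ∈ V Ψ lam X n ↔ ∃ y : X ⟶ U, y ≫ v = g := by
  classical
  have hek : ∀ i, e i ∈ Ψ ∧ n ≤ lam (D.P.root (e i)) := fun i => Set.ext_iff.1 he.2 _ |>.1 (Set.mem_range_self i)
  let ev : (X ⟶ U) →* (X ⟶ G) := MonoidHom.mk' (· ≫ v) fun a b => MonObj.mul_comp a b v
  constructor
  · intro hg
    suffices V Ψ lam X n ≤ ev.range from this hg
    refine (Subgroup.closure_le _).2 ?_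
    rintro _ ⟨c, r, hc, hle, rfl⟩
    obtain ⟨i, rfl⟩ := Set.ext_iff.1 he.2 c |>.2 ⟨hc, hle⟩
    refine ⟨tuple m (fun j => Ga.gaPt ((Pi.single i r : Fin m → Γ(X.left, ⊤)) j)) ≫ ψ.hom, ?_⟩
    show (_ ≫ ψ.hom) ≫ v = _
    rw [Category.assoc, hψ, Groth.Agent.H82.Reduced.prodPts_tuple, prodPts_single]
  · rintro ⟨y, rfl⟩
    rw [← Category.comp_id y, ← ψ.inv_hom_id, Category.assoc, Category.assoc, hψ, ← Category.assoc, comp_prodMap]
    refine prodPts_mem _ fun i => ?_
    rw [← Category.assoc, P_eq]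
    exact mem_V Ψ lam (hek i).1 (hek i).2 _

end Groth.Agent.H82.Order.Level
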