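import Groth.Agent.H82.Contract.Split
import Groth.Agent.Lib.RootDatum.PosSys

/-!
# A regular functional for an ordering of the character lattice
-/

set_option autoImplicit false
universe u

open CategoryTheory AlgebraicGeometry
open Groth.Agent.Lib.RootDatum

namespace Groth.Agent.H82.Order

variable {S : Scheme.{u}} {G : Over S} [GrpObj G]

/-- For an ordering of the lattice there is a functional with the same positive roots. -/
theorem exists_regular_order (D : Red.SplitRed G) [LinearOrder D.M] [IsOrderedAddMonoid D.M] :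
    ∃ l : D.M →+ ℤ, ∀ a : D.idx, (0 < l (D.P.root a) ↔ 0 < D.P.root a) ∧ l (D.P.root a) ≠ 0 := by
  classical
  haveI : D.P.IsCrystallographic := ⟨fun i j => ⟨D.P.pairing i j, by simp⟩⟩
  have hS : RootD.IsPosSys D.P {i | 0 < D.P.root i} :=
    PosSys.isPosSys_of_addHom D.P (fun i => D.P.root i) (fun i => Basic.root_negIdx D.P i) (fun _ _ _ h => h)
      fun i => (lt_or_gt_of_ne (D.P.ne_zero i)).symm
  have hΔ := PosSys.isSimpleSys_simples D.P hS
  obtain ⟨l, hl⟩ := Contract.exists_positive (fun a : PosSys.simples D.P {i | 0 < D.P.root i} => D.P.root a) hΔ.linInd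
  have hcl : ∀ m ∈ RootD.natSpan D.P (PosSys.simples D.P {i | 0 < D.P.root i}), m = 0 ∨ 0 < l m := fun m hm => by
    induction hm using AddSubmonoid.closure_induction with
    | mem x hx =>
      obtain ⟨a, ha, rfl⟩ := hx
      exact Or.inr (hl ⟨a, ha⟩)
    | zero => exact Or.inl rfl
    | add x y _ _ hx hy =>
      rcases hx with rfl | hx
      · simpa using hy
      · rcases hy with rfl | hy
        · exact Or.inr (by simpa using hx)
        · exact Or.inr (by rw [map_add]; exact add_pos hx hy)
  have hpos : ∀ a, 0 < D.P.root a → 0 < l (D.P.root a) := fun a ha => by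
    have h1 : a ∈ RootD.posOf D.P (PosSys.simples D.P {i | 0 < D.P.root i}) := by
      rw [PosSys.posOf_simples D.P hS]; exact ha
    exact (hcl _ h1).resolve_left (D.P.ne_zero a)
  have hneg : ∀ a, D.P.root a < 0 → l (D.P.root a) < 0 := fun a ha => by
    have := hpos (Basic.negIdx D.P a) (by rw [Basic.root_negIdx]; exact neg_pos.2 ha)
    rw [Basic.root_negIdx, map_neg] at this
    exact neg_pos.1 this
  refine ⟨l.toAddMonoidHom, fun a => ?_⟩
  rcases lt_or_gt_of_ne (D.P.ne_zero a) with h | h
  · exact ⟨⟨fun h' => absurd h' (not_lt.2 (hneg a h).le), fun h' => absurd h' (not_lt.2 h.le)⟩, (hneg a h).ne⟩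
  · exact ⟨⟨fun _ => h, fun _ => hpos a h⟩, (hpos a h).ne'⟩

end Groth.Agent.H82.Order
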